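import Mathlib
import Cfsg.Prelude.Def_LocalEven
import Cfsg.Prelude.Def_FusionSystem
import Cfsg.Agent.Lib.Transfer.Basic
import Cfsg.Agent.Lib.Solv.Coprime2
import Cfsg.Agent.Lib.Solv.Subnormal
import Cfsg.Agent.Lib.Fusion.GroupSystem
import Cfsg.Agent.Lib.Fusion.Alperin

/-!
The characteristic subgroup `D*(S)` of Glauberman and Solomon: in a stable group its normalizer
controls strong fusion, also relative to a normal subgroup.
-/

set_option autoImplicit false
set_option linter.style.haveILetI false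
set_option linter.unusedSectionVars false

open scoped commutatorElement

namespace Cfsg.Lib.PStable.DStar

open Cfsg

variable {G : Type*} [Group G]

/-- `g` acts quadratically on `A`. -/
def Quad (A : Subgroup G) (g : G) : Prop := ∀ a ∈ A, Commute ⁅a, g⁆ g

/-- An abelian normal subgroup of `T` with no nontrivial quadratic action. -/
def Mem (T A : Subgroup G) : Prop :=
  A ≤ T ∧ T ≤ Subgroup.normalizer (A : Set G) ∧ (∀ a ∈ A, ∀ b ∈ A, Commute a b) ∧
    ∀ g ∈ T, Quad A g → ∀ a ∈ A, Commute a g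

/-- The largest such subgroup. -/
def dStar (T : Subgroup G) : Subgroup G := sSup {A | Mem T A}

theorem mem_bot (T : Subgroup G) : Mem T ⊥ :=
  ⟨bot_le, fun g _ => Subgroup.mem_normalizer_iff.2 fun y => by simp,
    fun a ha b _ => by rw [Subgroup.mem_bot] at ha; subst ha; exact Commute.one_left b,
    fun g _ _ a ha => by rw [Subgroup.mem_bot] at ha; subst ha; exact Commute.one_left g⟩

theorem mem_center (T : Subgroup G) : Mem T (T ⊓ Subgroup.centralizer (T : Set G)) := by
  refine ⟨inf_le_left, fun g hg => Subgroup.mem_normalizer_iff.2 fun y => ?_,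
    fun a ha b hb => (Subgroup.mem_centralizer_iff.1 hb.2 a ha.1),
    fun g hg _ a ha => (Subgroup.mem_centralizer_iff.1 ha.2 g hg).symm⟩
  have key : ∀ k ∈ T, ∀ z ∈ T ⊓ Subgroup.centralizer (T : Set G), k * z * k⁻¹ = z := fun k hk z hz => by
    rw [Subgroup.mem_centralizer_iff.1 hz.2 k hk, mul_inv_cancel_right]
  constructor
  · intro hy; rwa [key g hg y hy]
  · intro hy
    have h := key g⁻¹ (inv_mem hg) _ hy
    rw [inv_inv] at h
    have hy' : y = g * y * g⁻¹ := by rw [← h]; group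
    rw [hy']; exact hy

theorem mem_sup {T A B : Subgroup G} (hA : Mem T A) (hB : Mem T B) : Mem T (A ⊔ B) := by
  obtain ⟨hA1, hA2, hA3, hA4⟩ := hA
  obtain ⟨hB1, hB2, hB3, hB4⟩ := hB
  have hcomm : ∀ a ∈ A, ∀ b ∈ B, Commute a b := by
    intro a ha b hb
    refine hA4 b (hB1 hb) (fun a' ha' => ?_) a ha
    have h1 : ⁅a', b⁆ ∈ B := by
      rw [commutatorElement_def]
      exact mul_mem ((Subgroup.mem_normalizer_iff.1 (hB2 (hA1 ha')) b).1 hb) (inv_mem hb)
    exact hB3 _ h1 b hb
  refine ⟨sup_le hA1 hB1, le_trans (le_inf hA2 hB2) (Subgroup.normalizer_inf_normalizer_le_normalizer_sup A B),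
    ?_, fun g hg hq => ?_⟩
  · have h1 : ∀ u ∈ A ⊔ B, ∀ b ∈ (A : Set G) ∪ B, Commute u b := by
      intro u hu b hb
      have : A ⊔ B ≤ Subgroup.centralizer ({b} : Set G) := by
        refine sup_le (fun a ha => ?_) (fun a ha => ?_) <;>
          refine Subgroup.mem_centralizer_singleton_iff.2 ?_
        · exact (hb.elim (hA3 a ha b) (hcomm a ha b)).eq
        · exact (hb.elim (fun h => (hcomm b h a ha).symm) (hB3 a ha b)).eq
      exact Subgroup.mem_centralizer_singleton_iff.1 (this hu)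
    intro u hu v hv
    have : A ⊔ B ≤ Subgroup.centralizer ({u} : Set G) := by
      refine sup_le (fun a ha => ?_) (fun a ha => ?_) <;>
        refine Subgroup.mem_centralizer_singleton_iff.2 ?_
      · exact (h1 u hu a (Or.inl ha)).eq.symm
      · exact (h1 u hu a (Or.inr ha)).eq.symm
    exact ((Subgroup.mem_centralizer_singleton_iff.1 (this hv)) : v * u = u * v).symm
  · have : A ⊔ B ≤ Subgroup.centralizer ({g} : Set G) :=
      sup_le (fun a ha => Subgroup.mem_centralizer_singleton_iff.2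
          (hA4 g hg (fun a' h => hq a' (Subgroup.mem_sup_left h)) a ha).eq)
        (fun a ha => Subgroup.mem_centralizer_singleton_iff.2
          (hB4 g hg (fun a' h => hq a' (Subgroup.mem_sup_right h)) a ha).eq)
    exact fun a ha => Subgroup.mem_centralizer_singleton_iff.1 (this ha)

theorem mem_dStar [Finite G] (T : Subgroup G) : Mem T (dStar T) := by
  obtain ⟨M, -, hM⟩ := ({A | Mem T A} : Set (Subgroup G)).toFinite.exists_le_maximal (mem_bot T)
  have : dStar T = M := le_antisymm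
    (sSup_le fun A hA => le_sup_left.trans (hM.2 (mem_sup hA hM.1) le_sup_right)) (le_sSup hM.1)
  rw [this]; exact hM.1

theorem le_dStar {T A : Subgroup G} (h : Mem T A) : A ≤ dStar T := le_sSup h

theorem dStar_le (T : Subgroup G) : dStar T ≤ T := sSup_le fun _ h => h.1

theorem mem_map {T A : Subgroup G} (h : Mem T A) (e : G ≃* G) :
    Mem (T.map e.toMonoidHom) (A.map e.toMonoidHom) := by
  obtain ⟨h1, h2, h3, h4⟩ := h
  refine ⟨Subgroup.map_mono h1, ?_, ?_, ?_⟩
  · rw [← Subgroup.map_equiv_normalizer_eq]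
    exact Subgroup.map_mono h2
  · rintro _ ⟨a, ha, rfl⟩ _ ⟨b, hb, rfl⟩
    exact (h3 a ha b hb).map e.toMonoidHom
  · rintro _ ⟨g, hg, rfl⟩ hq _ ⟨a, ha, rfl⟩
    refine (h4 g hg (fun a' ha' => ?_) a ha).map e.toMonoidHom
    have := (hq _ ⟨a', ha', rfl⟩).map e.symm.toMonoidHom
    simpa [commutatorElement_def, map_mul, map_inv] using this

theorem dStar_map (T : Subgroup G) (e : G ≃* G) :
    (dStar T).map e.toMonoidHom ≤ dStar (T.map e.toMonoidHom) := by
  rw [dStar, sSup_eq_iSup, Subgroup.map_iSup]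
  refine iSup_le fun A => ?_
  rw [Subgroup.map_iSup]
  exact iSup_le fun hA => le_dStar (mem_map hA e)

theorem normalizer_le_dStar (T : Subgroup G) :
    Subgroup.normalizer (T : Set G) ≤ Subgroup.normalizer (dStar T : Set G) := by
  intro n hn
  have key : ∀ k ∈ Subgroup.normalizer (T : Set G), ∀ x ∈ dStar T, k * x * k⁻¹ ∈ dStar T := by
    intro k hk x hx
    have hT : T.map (MulAut.conj k).toMonoidHom = T := by
      ext y
      constructor
      · rintro ⟨z, hz, rfl⟩; exact (Subgroup.mem_normalizer_iff.1 hk z).1 hz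
      · intro hy
        exact ⟨k⁻¹ * y * k, (Subgroup.mem_normalizer_iff''.1 hk y).1 hy, by simp [mul_assoc]⟩
    have h := dStar_map T (MulAut.conj k) ⟨x, hx, rfl⟩
    rwa [hT] at h
  refine Subgroup.mem_normalizer_iff.2 fun x => ⟨key n hn x, fun hx => ?_⟩
  have h := key n⁻¹ (inv_mem hn) _ hx
  rwa [show n⁻¹ * (n * x * n⁻¹) * n⁻¹⁻¹ = x by group] at h

theorem dStar_ne_bot [Finite G] {p : ℕ} [Fact p.Prime] {T : Subgroup G} (hT : IsPGroup p T) (h : T ≠ ⊥) :
    dStar T ≠ ⊥ := by
  haveI : Nontrivial T := (Subgroup.nontrivial_iff_ne_bot T).2 h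
  haveI := hT.center_nontrivial
  obtain ⟨z, hz⟩ := exists_ne (1 : Subgroup.center T)
  intro hb
  have hmem : ((z : T) : G) ∈ T ⊓ Subgroup.centralizer (T : Set G) :=
    ⟨(z : T).2, Subgroup.mem_centralizer_iff.2 fun y hy =>
      congrArg Subtype.val (Subgroup.mem_center_iff.1 z.2 ⟨y, hy⟩)⟩
  have := le_dStar (mem_center T) hmem
  rw [hb, Subgroup.mem_bot] at this
  exact hz (Subtype.ext (Subtype.ext this))

/-! ### The `p`-core of the automizer -/

variable {p : ℕ}

/-- The preimage of `O_p(N(V)/C(V))`. -/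
noncomputable def kerP (p : ℕ) (V : Subgroup G) : Subgroup G :=
  ((pCore p (↥(Subgroup.normalizer (V : Set G)) ⧸
    (Subgroup.centralizer (V : Set G)).subgroupOf (Subgroup.normalizer (V : Set G)))).comap
      (QuotientGroup.mk' _)).map (Subgroup.normalizer (V : Set G)).subtype

theorem quad_mem_kerP (hst : IsNormalizerPStable p G) {V : Subgroup G} (hV : IsPGroup p V) {g : G}
    (hg : g ∈ Subgroup.normalizer (V : Set G)) (hq : Quad V g) : g ∈ kerP p V := by
  have hb : ⁅V, Subgroup.zpowers g⁆ ≤ Subgroup.centralizer ({g} : Set G) := by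
    refine Subgroup.commutator_le.2 fun a ha b hb => ?_
    obtain ⟨i, rfl⟩ := hb
    have hag : Commute (a * g * a⁻¹) g := by
      have h := (hq a ha).mul_left (Commute.refl g)
      rwa [commutatorElement_def, inv_mul_cancel_right] at h
    refine Subgroup.mem_centralizer_singleton_iff.2 ?_
    have h2 : ⁅a, g ^ i⁆ = (a * g * a⁻¹) ^ i * (g ^ i)⁻¹ := by rw [conj_zpow, commutatorElement_def]
    show ⁅a, g ^ i⁆ * g = g * ⁅a, g ^ i⁆
    rw [h2]
    exact ((hag.zpow_left i).mul_left ((Commute.refl g).zpow_left i).inv_left).eq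
  have h := hst V hV g hg (Subgroup.commutator_eq_bot_iff_le_centralizer.2 fun x hx => by
    refine Subgroup.mem_centralizer_iff.2 ?_
    rintro _ ⟨i, rfl⟩
    have hxg : Commute x g := Subgroup.mem_centralizer_singleton_iff.1 (hb hx)
    exact (hxg.zpow_right i).symm.eq)
  exact ⟨⟨g, hg⟩, h, rfl⟩

theorem kerP_le (V : Subgroup G) : kerP p V ≤ Subgroup.normalizer (V : Set G) := Subgroup.map_subtype_le _

theorem centralizer_le_normalizer' (V : Subgroup G) :
    Subgroup.centralizer (V : Set G) ≤ Subgroup.normalizer (V : Set G) := by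
  intro c hc
  have key : ∀ k ∈ Subgroup.centralizer (V : Set G), ∀ v ∈ V, k * v * k⁻¹ = v := fun k hk v hv => by
    rw [← Subgroup.mem_centralizer_iff.1 hk v hv, mul_inv_cancel_right]
  refine Subgroup.mem_normalizer_iff.2 fun v => ⟨fun hv => by rwa [key c hc v hv], fun hv => ?_⟩
  have h := key c⁻¹ (inv_mem hc) _ hv
  rw [show c⁻¹ * (c * v * c⁻¹) * c⁻¹⁻¹ = v by group] at h
  rwa [h]

theorem centralizer_le_kerP (V : Subgroup G) : Subgroup.centralizer (V : Set G) ≤ kerP p V := by
  intro c hc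
  refine ⟨⟨c, centralizer_le_normalizer' V hc⟩, ?_, rfl⟩
  refine Subgroup.mem_comap.2 ?_
  rw [show QuotientGroup.mk' ((Subgroup.centralizer (V : Set G)).subgroupOf (Subgroup.normalizer (V : Set G)))
      (⟨c, centralizer_le_normalizer' V hc⟩ : Subgroup.normalizer (V : Set G)) = 1
    from (QuotientGroup.eq_one_iff _).2 hc]
  exact one_mem _

theorem kerP_conj {V : Subgroup G} {n d : G} (hn : n ∈ Subgroup.normalizer (V : Set G)) (hd : d ∈ kerP p V) :
    n * d * n⁻¹ ∈ kerP p V := by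
  obtain ⟨d, hd, rfl⟩ := hd
  haveI := Cfsg.Lib.Transfer.pCore_normal (G := ↥(Subgroup.normalizer (V : Set G)) ⧸
    (Subgroup.centralizer (V : Set G)).subgroupOf (Subgroup.normalizer (V : Set G))) p
  exact ⟨⟨n, hn⟩ * d * ⟨n, hn⟩⁻¹, Subgroup.Normal.conj_mem inferInstance d hd _, rfl⟩

variable [Finite G] [Fact p.Prime]

theorem kerP_frattini (S : Sylow p G) {V : Subgroup G}
    (hcard : Nat.card (FusionSystem.normalizerIn (S : Subgroup G) V) =
      p ^ (Nat.card (Subgroup.normalizer (V : Set G))).factorization p)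
    {x : G} (hx : x ∈ Subgroup.normalizer (V : Set G)) :
    ∃ c ∈ Subgroup.centralizer (V : Set G), ∃ n ∈ Subgroup.normalizer (V : Set G),
      n ∈ Subgroup.normalizer ((FusionSystem.normalizerIn (S : Subgroup G) V ⊓ kerP p V : Subgroup G) : Set G) ∧
      x = c * n := by
  set N := Subgroup.normalizer (V : Set G) with hN
  obtain ⟨R, hR⟩ := (Cfsg.Lib.Fusion.exists_sylow_eq_iff (p := p)
    (show FusionSystem.normalizerIn (S : Subgroup G) V ≤ N from inf_le_right)).2 hcard
  set C := (Subgroup.centralizer (V : Set G)).subgroupOf N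
  haveI hpn := Cfsg.Lib.Transfer.pCore_normal (G := ↥N ⧸ C) p
  set D := (pCore p (↥N ⧸ C)).comap (QuotientGroup.mk' C) with hD
  obtain ⟨P, hP⟩ := Cfsg.Lib.Solv.sylow_inf_subnormal (inferInstance : D.Normal).isSubnormal R
  have htop : Subgroup.normalizer (((P : Subgroup ↥D).map D.subtype : Subgroup ↥N) : Set ↥N) ⊔ D = ⊤ :=
    P.normalizer_sup_eq_top
  rw [hP, Subgroup.subgroupOf_map_subtype] at htop
  set T := (R : Subgroup ↥N) ⊓ D
  have hDT : D ≤ T ⊔ C := by
    intro d hd
    obtain ⟨s, hs, hsd⟩ := Cfsg.Lib.Transfer.pCore_le_sylow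
      (R.mapSurjective (QuotientGroup.mk'_surjective C)) hd
    have h4 : s⁻¹ * d ∈ C := QuotientGroup.eq.1 hsd
    rw [← mul_inv_cancel_left s d]
    refine mul_mem (Subgroup.mem_sup_left ⟨hs, ?_⟩) (Subgroup.mem_sup_right h4)
    show QuotientGroup.mk' C s ∈ pCore p (↥N ⧸ C)
    rw [show QuotientGroup.mk' C s = QuotientGroup.mk' C d from hsd]
    exact hd
  have hmem : (⟨x, hx⟩ : ↥N) ∈ C ⊔ Subgroup.normalizer (T : Set ↥N) := (htop.ge.trans (sup_le le_sup_right
    (hDT.trans (sup_le (Subgroup.le_normalizer.trans le_sup_right) le_sup_left)))) (Subgroup.mem_top _)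
  obtain ⟨c, hc, n, hn, hcn⟩ := Subgroup.mem_sup_of_normal_left.1 hmem
  refine ⟨c, hc, n, n.2, ?_, congrArg Subtype.val hcn.symm⟩
  have hiff : ∀ y : G, y ∈ FusionSystem.normalizerIn (S : Subgroup G) V ⊓ kerP p V ↔
      ∃ hy : y ∈ N, (⟨y, hy⟩ : ↥N) ∈ T := by
    intro y
    constructor
    · rintro ⟨h1, z, hz, rfl⟩
      exact ⟨z.2, (hR ▸ h1 : z ∈ (R : Subgroup ↥N)), hz⟩
    · rintro ⟨hy, h1, h2⟩
      rw [hR] at h1
      exact ⟨h1, ⟨y, hy⟩, h2, rfl⟩
  refine Subgroup.mem_normalizer_iff.2 fun y => ?_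
  rw [hiff, hiff]
  constructor
  · rintro ⟨hy, h⟩
    exact ⟨mul_mem (mul_mem n.2 hy) (inv_mem n.2), (Subgroup.mem_normalizer_iff.1 hn _).1 h⟩
  · rintro ⟨hy, h⟩
    have hy' : y ∈ N := by
      have := mul_mem (mul_mem (inv_mem n.2) hy) n.2
      rwa [show (n : G)⁻¹ * ((n : G) * y * (n : G)⁻¹) * (n : G) = y by group] at this
    exact ⟨hy', (Subgroup.mem_normalizer_iff.1 hn ⟨y, hy'⟩).2 h⟩

/-! ### Control of fusion -/

theorem exists_adjust (S : Sylow p G) {V : Subgroup G} {c : G}
    (hcard : Nat.card (FusionSystem.normalizerIn (S : Subgroup G) (V.map (MulAut.conj c).toMonoidHom)) =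
      p ^ (Nat.card (Subgroup.normalizer
        ((V.map (MulAut.conj c).toMonoidHom : Subgroup G) : Set G))).factorization p) :
    ∃ m : G, V.map (MulAut.conj m).toMonoidHom = V.map (MulAut.conj c).toMonoidHom ∧
      ∀ x ∈ FusionSystem.normalizerIn (S : Subgroup G) V,
        m * x * m⁻¹ ∈ FusionSystem.normalizerIn (S : Subgroup G) (V.map (MulAut.conj c).toMonoidHom) := by
  set W := V.map (MulAut.conj c).toMonoidHom
  set N := Subgroup.normalizer (W : Set G)
  obtain ⟨R, hR⟩ := (Cfsg.Lib.Fusion.exists_sylow_eq_iff (p := p)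
    (show FusionSystem.normalizerIn (S : Subgroup G) W ≤ N from inf_le_right)).2 hcard
  set T := (FusionSystem.normalizerIn (S : Subgroup G) V).map (MulAut.conj c).toMonoidHom
  have hTN : T ≤ N := by
    refine le_trans (Subgroup.map_mono inf_le_right) (le_of_eq ?_)
    exact Subgroup.map_equiv_normalizer_eq V (MulAut.conj c)
  have hTp : IsPGroup p (T.subgroupOf N) :=
    ((S.isPGroup'.to_le inf_le_left).map _).of_equiv (Subgroup.subgroupOfEquivOfLe hTN).symm
  obtain ⟨R', hR'⟩ := hTp.exists_le_sylow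
  obtain ⟨k, hk⟩ := MulAction.exists_smul_eq ↥N R' R
  refine ⟨(k : G) * c, ?_, fun x hx => ?_⟩
  · ext y
    constructor
    · rintro ⟨v, hv, rfl⟩
      show (k : G) * c * v * ((k : G) * c)⁻¹ ∈ W
      rw [show (k : G) * c * v * ((k : G) * c)⁻¹ = (k : G) * (c * v * c⁻¹) * (k : G)⁻¹ by group]
      exact (Subgroup.mem_normalizer_iff.1 k.2 _).1 ⟨v, hv, rfl⟩
    · intro hy
      obtain ⟨v, hv, hvy⟩ := (Subgroup.mem_normalizer_iff''.1 k.2 y).1 hy
      refine ⟨v, hv, ?_⟩
      show (k : G) * c * v * ((k : G) * c)⁻¹ = y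
      rw [show (k : G) * c * v * ((k : G) * c)⁻¹ = (k : G) * (c * v * c⁻¹) * (k : G)⁻¹ by group,
        show c * v * c⁻¹ = (k : G)⁻¹ * y * (k : G) from hvy]
      group
  · set t : ↥N := ⟨c * x * c⁻¹, hTN ⟨x, hx, rfl⟩⟩
    have h1 : t ∈ (R' : Subgroup ↥N) := hR' (show t ∈ T.subgroupOf N from ⟨x, hx, rfl⟩)
    have h2 : k * t * k⁻¹ ∈ (R : Subgroup ↥N) := by
      rw [← hk]
      exact ⟨t, h1, rfl⟩
    rw [hR] at h2
    show (k : G) * c * x * ((k : G) * c)⁻¹ ∈ _
    rw [show (k : G) * c * x * ((k : G) * c)⁻¹ = (k : G) * (c * x * c⁻¹) * (k : G)⁻¹ by group]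
    exact h2

omit [Fact p.Prime] [Finite G] in
theorem normalizer_le_inf_normal (T K : Subgroup G) [K.Normal] :
    Subgroup.normalizer (T : Set G) ≤ Subgroup.normalizer ((T ⊓ K : Subgroup G) : Set G) := fun g hg => by
  refine Subgroup.mem_normalizer_iff.2 fun y => and_congr ((Subgroup.mem_normalizer_iff.1 hg) y) ?_
  refine ⟨fun hy => Subgroup.Normal.conj_mem inferInstance y hy g, fun hy => ?_⟩
  have h := Subgroup.Normal.conj_mem (inferInstance : K.Normal) _ hy g⁻¹
  rwa [show g⁻¹ * (g * y * g⁻¹) * g⁻¹⁻¹ = y by group] at h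

/-- Every conjugation map on `P` into `S` is induced from the normalizer of `D`. -/
def Good (S D P : Subgroup G) : Prop :=
  ∀ g : G, (∀ x ∈ P, g * x * g⁻¹ ∈ S) →
    ∃ h ∈ Subgroup.normalizer (D : Set G), ∀ x ∈ P, h * x * h⁻¹ = g * x * g⁻¹

omit [Fact p.Prime] in
theorem conj_map_of_normalizer {A : Subgroup G} {n : G} (hn : n ∈ Subgroup.normalizer (A : Set G)) :
    A.map (MulAut.conj n).toMonoidHom = A := by
  ext y
  constructor
  · rintro ⟨z, hz, rfl⟩; exact (Subgroup.mem_normalizer_iff.1 hn z).1 hz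
  · intro hy
    exact ⟨n⁻¹ * y * n, (Subgroup.mem_normalizer_iff''.1 hn y).1 hy, by simp [mul_assoc]⟩

theorem control (hst : IsNormalizerPStable p G) (K : Subgroup G) [K.Normal] (S : Sylow p G) :
    ∀ P : Subgroup G, P ≤ S → Good (S : Subgroup G) (dStar ((S : Subgroup G) ⊓ K)) P := by
  set D := dStar ((S : Subgroup G) ⊓ K) with hDdef
  obtain ⟨hD1, -, hD3, hD4⟩ := mem_dStar ((S : Subgroup G) ⊓ K)
  have hSD' : Subgroup.normalizer ((S : Subgroup G) : Set G) ≤ Subgroup.normalizer (D : Set G) := by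
    refine le_trans ?_ (normalizer_le_dStar _)
    exact normalizer_le_inf_normal _ K
  have hSD : (S : Subgroup G) ≤ Subgroup.normalizer (D : Set G) := Subgroup.le_normalizer.trans hSD'
  intro P
  induction' hn : Nat.card (S : Subgroup G) - Nat.card P using Nat.strong_induction_on with n ih generalizing P
  intro hPS
  have hIH : ∀ P' : Subgroup G, P' ≤ S → Nat.card P < Nat.card P' → Good (S : Subgroup G) D P' := by
    intro P' h1 h2
    refine ih _ ?_ P' rfl h1
    have := Subgroup.card_le_of_le h1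
    omega
  intro g hg
  rcases eq_or_lt_of_le hPS with hPeq | hPlt
  · refine ⟨g, hSD' ?_, fun _ _ => rfl⟩
    subst hPeq
    exact Subgroup.mem_normalizer_fintype hg
  -- grow: proper subgroups of `S` have larger normalizers
  have grow : ∀ X : Subgroup G, X < (S : Subgroup G) →
      Nat.card X < Nat.card (FusionSystem.normalizerIn (S : Subgroup G) X) := by
    intro X hX
    refine Cfsg.Lib.Fusion.card_lt_of_lt inf_le_left ?_
    exact Cfsg.Lib.Fusion.normalizer_growth S.isPGroup' le_rfl hX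
  -- replace elements by elements of the normalizer of `D`
  have straighten : ∀ V : Subgroup G, V ≤ S → Nat.card P < Nat.card (FusionSystem.normalizerIn (S : Subgroup G) V) →
      ∀ c : G, Nat.card (FusionSystem.normalizerIn (S : Subgroup G) (V.map (MulAut.conj c).toMonoidHom)) =
        p ^ (Nat.card (Subgroup.normalizer
          ((V.map (MulAut.conj c).toMonoidHom : Subgroup G) : Set G))).factorization p →
      ∃ h ∈ Subgroup.normalizer (D : Set G), V.map (MulAut.conj h).toMonoidHom = V.map (MulAut.conj c).toMonoidHom ∧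
        ∀ x ∈ FusionSystem.normalizerIn (S : Subgroup G) V,
          h * x * h⁻¹ ∈ FusionSystem.normalizerIn (S : Subgroup G) (V.map (MulAut.conj c).toMonoidHom) := by
    intro V hVS hV c hc
    obtain ⟨m, hm1, hm2⟩ := exists_adjust S hc
    obtain ⟨h, hh, hhm⟩ := hIH _ inf_le_left hV m fun x hx => (hm2 x hx).1
    refine ⟨h, hh, ?_, fun x hx => hhm x hx ▸ hm2 x hx⟩
    rw [← hm1]
    ext y
    constructor <;> rintro ⟨v, hv, rfl⟩ <;>
      refine ⟨v, hv, ?_⟩
    · exact (hhm v ⟨hVS hv, Subgroup.le_normalizer hv⟩).symm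
    · exact hhm v ⟨hVS hv, Subgroup.le_normalizer hv⟩
  -- abelian subgroups above `D` with a large normalizer
  have above : ∀ A : Subgroup G, A ≤ (S : Subgroup G) ⊓ K → (∀ a ∈ A, ∀ b ∈ A, Commute a b) → D ≤ A →
      Nat.card P < Nat.card (FusionSystem.normalizerIn (S : Subgroup G) A) →
      Subgroup.normalizer (A : Set G) ≤ Subgroup.normalizer (D : Set G) := by
    intro A
    induction' hk : Nat.card (S : Subgroup G) - Nat.card (FusionSystem.normalizerIn (S : Subgroup G) A)
      using Nat.strong_induction_on with k ihk generalizing A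
    intro hAS hAc hDA hA
    set V : Subgroup G := ⨆ a : Subgroup.normalizer (A : Set G), D.map (MulAut.conj (a : G)).toMonoidHom with hVdef
    have hVA : V ≤ A := iSup_le fun a => (Subgroup.map_mono hDA).trans (conj_map_of_normalizer a.2).le
    have hDV : D ≤ V := by
      refine le_trans ?_ (le_iSup _ (1 : Subgroup.normalizer (A : Set G)))
      intro x hx; exact ⟨x, hx, by simp⟩
    have hNAV : Subgroup.normalizer (A : Set G) ≤ Subgroup.normalizer (V : Set G) := by
      intro a ha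
      refine Subgroup.mem_normalizer_fintype fun v hv => ?_
      have h : V.map (MulAut.conj a).toMonoidHom ≤ V := by
        rw [hVdef, Subgroup.map_iSup]
        refine iSup_le fun b => le_trans ?_ (le_iSup _ (⟨a, ha⟩ * b))
        rintro _ ⟨_, ⟨x, hx, rfl⟩, rfl⟩
        exact ⟨x, hx, by simp [mul_assoc]⟩
      exact h ⟨v, hv, rfl⟩
    have hVS : V ≤ (S : Subgroup G) := hVA.trans (hAS.trans inf_le_left)
    have hAV : Nat.card (FusionSystem.normalizerIn (S : Subgroup G) A) ≤
        Nat.card (FusionSystem.normalizerIn (S : Subgroup G) V) :=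
      Subgroup.card_le_of_le (inf_le_inf_left _ hNAV)
    obtain ⟨c, -, hccard⟩ := Cfsg.Lib.Fusion.exists_conj_normalizer_sylow S hVS
    obtain ⟨h, hh, hhV, hhN⟩ := straighten V hVS (by omega) c hccard
    rw [← hhV] at hccard hhN
    set V' := V.map (MulAut.conj h).toMonoidHom with hV'def
    set N' := Subgroup.normalizer (V' : Set G)
    set T' := FusionSystem.normalizerIn (S : Subgroup G) V' with hT'
    have hcT : Nat.card (FusionSystem.normalizerIn (S : Subgroup G) V) ≤ Nat.card T' := by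
      rw [← Subgroup.card_map_of_injective (f := (MulAut.conj h).toMonoidHom)
        (K := FusionSystem.normalizerIn (S : Subgroup G) V) (MulAut.conj h).injective]
      refine Subgroup.card_le_of_le ?_
      rintro _ ⟨x, hx, rfl⟩
      exact hhN x hx
    have hDV' : D ≤ V' := (conj_map_of_normalizer hh).ge.trans (Subgroup.map_mono hDV)
    have hV'S : V' ≤ (S : Subgroup G) := by
      rintro _ ⟨v, hv, rfl⟩
      exact (hhN v ⟨hVS hv, Subgroup.le_normalizer hv⟩).1
    have hV'K : V' ≤ K := by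
      rintro _ ⟨v, hv, rfl⟩
      exact Subgroup.Normal.conj_mem inferInstance v (hAS (hVA hv)).2 h
    have hV'p : IsPGroup p V' := S.isPGroup'.to_le hV'S
    have hT'V : T' ⊓ K ≤ Subgroup.normalizer (V' : Set G) := inf_le_left.trans inf_le_right
    -- `V'` belongs to the class of `T' ⊓ K`
    have hmemV : Mem (T' ⊓ K) V' := by
      refine ⟨le_inf (le_inf hV'S Subgroup.le_normalizer) hV'K, hT'V, ?_, ?_⟩
      · rintro _ ⟨v, hv, rfl⟩ _ ⟨w, hw, rfl⟩
        exact (hAc v (hVA hv) w (hVA hw)).map (MulAut.conj h).toMonoidHom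
      · intro t ht hq v hv
        have htk := quad_mem_kerP hst hV'p (hT'V ht) hq
        have hle : V' ≤ Subgroup.centralizer ({t} : Set G) := by
          rw [hV'def, hVdef, Subgroup.map_iSup]
          refine iSup_le fun a => ?_
          rintro _ ⟨_, ⟨d, hd, rfl⟩, rfl⟩
          have hx : h * (a : G) * h⁻¹ ∈ N' := by
            have : h * (a : G) * h⁻¹ ∈ (Subgroup.normalizer (V : Set G)).map (MulAut.conj h).toMonoidHom :=
              ⟨a, hNAV a.2, rfl⟩
            rw [Subgroup.map_equiv_normalizer_eq] at this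
            exact this
          obtain ⟨z, hz, n, hn1, hn2, hzn⟩ := kerP_frattini S hccard hx
          set e := h⁻¹⁻¹ * ((a : G) * ((h⁻¹ * d * h)) * (a : G)⁻¹) * h⁻¹
          show Subgroup.centralizer ({t} : Set G) |>.carrier (h * ((a : G) * d * (a : G)⁻¹) * h⁻¹)
          set d' := h * d * h⁻¹ with hd'
          have hd'D : d' ∈ D := (Subgroup.mem_normalizer_iff.1 hh d).1 hd
          rw [show h * ((a : G) * d * (a : G)⁻¹) * h⁻¹ = (h * (a : G) * h⁻¹) * d' * (h * (a : G) * h⁻¹)⁻¹ by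
            rw [hd']; group, hzn]
          have hnd : n * d' * n⁻¹ ∈ V' := (Subgroup.mem_normalizer_iff.1 hn1 d').1 (hDV' hd'D)
          rw [show z * n * d' * (z * n)⁻¹ = z * (n * d' * n⁻¹) * z⁻¹ by group,
            ← Subgroup.mem_centralizer_iff.1 hz _ hnd, mul_inv_cancel_right]
          refine Subgroup.mem_centralizer_singleton_iff.2 ?_
          have ht' : n⁻¹ * t * n ∈ T' ⊓ kerP p V' :=
            (Subgroup.mem_normalizer_iff''.1 hn2 t).1 ⟨ht.1, htk⟩
          have htK : n⁻¹ * t * n ∈ K := by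
            simpa using Subgroup.Normal.conj_mem (inferInstance : K.Normal) t ht.2 n⁻¹
          have hq' : Quad D (n⁻¹ * t * n) := by
            intro u hu
            have h1 := (hq (n * u * n⁻¹) ((Subgroup.mem_normalizer_iff.1 hn1 u).1 (hDV' hu))).map
              (MulAut.conj n⁻¹).toMonoidHom
            simpa [commutatorElement_def, mul_assoc] using h1
          have h2 := (hD4 _ ⟨ht'.1.1, htK⟩ hq' d' hd'D).map (MulAut.conj n).toMonoidHom
          simpa [mul_assoc] using h2.eq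
        exact Subgroup.mem_centralizer_singleton_iff.1 (hle hv)
    -- the largest member is the same for the smaller group
    set M := dStar (T' ⊓ K) with hMdef
    obtain ⟨hM1, hM2, hM3, hM4⟩ := mem_dStar (T' ⊓ K)
    have hV'M : V' ≤ M := le_dStar hmemV
    have hMk : M ≤ kerP p V' := fun m hm => centralizer_le_kerP V'
      (Subgroup.mem_centralizer_iff.2 fun v hv => hM3 v (hV'M hv) m hm)
    set T0 := T' ⊓ kerP p V'
    set M0 := dStar (T0 ⊓ K)
    obtain ⟨hN1, -, hN3, hN4⟩ := mem_dStar (T0 ⊓ K)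
    have hMM0 : M ≤ M0 := le_dStar ⟨le_inf (le_inf (hM1.trans inf_le_left) hMk) (hM1.trans inf_le_right),
      (inf_le_inf_right K (inf_le_left : T0 ≤ T')).trans hM2, hM3,
      fun t ht hq => hM4 t (inf_le_inf_right K (inf_le_left : T0 ≤ T') ht) hq⟩
    have hT'T0 : T' ⊓ K ≤ Subgroup.normalizer ((T0 ⊓ K : Subgroup G) : Set G) := by
      intro t ht
      refine Subgroup.mem_normalizer_fintype fun y hy => ?_
      exact ⟨⟨T'.mul_mem (T'.mul_mem ht.1 hy.1.1) (T'.inv_mem ht.1), kerP_conj ht.1.2 hy.1.2⟩,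
        Subgroup.Normal.conj_mem inferInstance y hy.2 t⟩
    have hM0M : M0 ≤ M := le_dStar ⟨hN1.trans (inf_le_inf_right K inf_le_left),
      hT'T0.trans (normalizer_le_dStar _), hN3, fun t ht hq => hN4 t
        ⟨⟨ht.1, quad_mem_kerP (p := p) hst hV'p ht.1.2 fun v hv => hq v (hMM0 (hV'M hv))⟩, ht.2⟩ hq⟩
    have hNM : Subgroup.normalizer (M : Set G) ≤ Subgroup.normalizer (D : Set G) := by
      rcases eq_or_lt_of_le (inf_le_left : T' ≤ (S : Subgroup G)) with hTS | hTS
      · rw [hDdef, hMdef]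
        exact le_of_eq (by rw [show T' ⊓ K = (S : Subgroup G) ⊓ K from congrArg (· ⊓ K) hTS])
      · have h1 : FusionSystem.normalizerIn (S : Subgroup G) T' ≤ FusionSystem.normalizerIn (S : Subgroup G) M := by
          refine le_inf inf_le_left (fun s hs => normalizer_le_dStar _ ?_)
          exact normalizer_le_inf_normal T' K hs.2
        have h2 := grow T' hTS
        have h3 := Subgroup.card_le_of_le h1
        have h4 : Nat.card (FusionSystem.normalizerIn (S : Subgroup G) M) ≤ Nat.card (S : Subgroup G) :=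
          Subgroup.card_le_of_le inf_le_left
        exact ihk _ (by omega) M rfl (hM1.trans (inf_le_inf_right K inf_le_left)) hM3
          (hDV'.trans hV'M) (by omega)
    have hN'D : N' ≤ Subgroup.normalizer (D : Set G) := by
      intro x hx
      obtain ⟨z, hz, n, hn1, hn2, rfl⟩ := kerP_frattini S hccard hx
      refine mul_mem (centralizer_le_normalizer' D (Subgroup.centralizer_le hDV' hz)) (hNM ?_)
      rw [le_antisymm hMM0 hM0M]
      exact normalizer_le_dStar _ (normalizer_le_inf_normal T0 K hn2)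
    intro a ha
    have h5 : h * a * h⁻¹ ∈ N' := by
      have : h * a * h⁻¹ ∈ (Subgroup.normalizer (V : Set G)).map (MulAut.conj h).toMonoidHom := ⟨a, hNAV ha, rfl⟩
      rw [Subgroup.map_equiv_normalizer_eq] at this
      exact this
    have h6 := mul_mem (mul_mem (inv_mem hh) (hN'D h5)) hh
    rwa [show h⁻¹ * (h * a * h⁻¹) * h = a by group] at h6
  -- fully normalized representatives
  obtain ⟨c, hcS, hccard⟩ := Cfsg.Lib.Fusion.exists_conj_normalizer_sylow S hPS
  obtain ⟨h1, hh1, hh1P, hh1N⟩ := straighten P hPS (grow P hPlt) c hccard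
  set Q := P.map (MulAut.conj c).toMonoidHom with hQdef
  set P' := P.map (MulAut.conj g).toMonoidHom with hP'def
  have hP'S : P' ≤ (S : Subgroup G) := by rintro _ ⟨x, hx, rfl⟩; exact hg x hx
  have hP'card : Nat.card P' = Nat.card P := Subgroup.card_map_of_injective (MulAut.conj g).injective
  have hP'lt : P' < (S : Subgroup G) := lt_of_le_of_ne hP'S fun e => by
    have := Cfsg.Lib.Fusion.card_lt_of_lt (le_refl (S : Subgroup G)) hPlt
    rw [e] at hP'card
    omega
  have hP'Q : P'.map (MulAut.conj (c * g⁻¹)).toMonoidHom = Q := by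
    rw [hP'def, Subgroup.map_map, hQdef]
    refine congrArg (fun f => P.map f) ?_
    ext x
    simp [mul_assoc]
  obtain ⟨h2, hh2, hh2P, -⟩ := straighten P' hP'S (hP'card ▸ grow P' hP'lt) (c * g⁻¹) (hP'Q ▸ hccard)
  rw [hP'Q] at hh2P
  have hQcard : Nat.card Q = Nat.card P := Subgroup.card_map_of_injective (MulAut.conj c).injective
  have hQlt : Q < (S : Subgroup G) := lt_of_le_of_ne hcS fun e => by
    have := Cfsg.Lib.Fusion.card_lt_of_lt (le_refl (S : Subgroup G)) hPlt
    rw [e] at hQcard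
    omega
  have hn0 : h2 * g * h1⁻¹ ∈ Subgroup.normalizer (Q : Set G) := by
    refine Subgroup.mem_normalizer_fintype fun q hq => ?_
    rw [← hh1P] at hq
    obtain ⟨x, hx, rfl⟩ := hq
    rw [← hh2P]
    exact ⟨g * x * g⁻¹, ⟨x, hx, rfl⟩, by simp [mul_assoc]⟩
  suffices key : ∀ n ∈ Subgroup.normalizer (Q : Set G),
      ∃ h ∈ Subgroup.normalizer (D : Set G), ∀ x ∈ Q, h * x * h⁻¹ = n * x * n⁻¹ by
    obtain ⟨h, hh, hhn⟩ := key _ hn0
    refine ⟨h2⁻¹ * h * h1, mul_mem (mul_mem (inv_mem hh2) hh) hh1, fun x hx => ?_⟩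
    have := hhn (h1 * x * h1⁻¹) (hh1P ▸ ⟨x, hx, rfl⟩)
    rw [show h2⁻¹ * h * h1 * x * (h2⁻¹ * h * h1)⁻¹ = h2⁻¹ * (h * (h1 * x * h1⁻¹) * h⁻¹) * h2 by group, this]
    group
  intro n hn
  by_cases hDQ : D ≤ Q
  · refine ⟨n, ?_, fun _ _ => rfl⟩
    obtain ⟨hA1, -, hA3, -⟩ := mem_dStar (Q ⊓ K)
    have hQA : Subgroup.normalizer (Q : Set G) ≤ Subgroup.normalizer (dStar (Q ⊓ K) : Set G) :=
      (normalizer_le_inf_normal Q K).trans (normalizer_le_dStar _)
    refine above _ (hA1.trans (inf_le_inf_right K hcS)) hA3 (le_dStar ⟨le_inf hDQ (hD1.trans inf_le_right),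
      inf_le_left.trans (hcS.trans hSD), hD3,
      fun t ht hq => hD4 t (inf_le_inf_right K hcS ht) hq⟩) ?_ (hQA hn)
    have := Subgroup.card_le_of_le (inf_le_inf_left (S : Subgroup G) hQA)
    have := grow Q hQlt
    show _ < Nat.card ↥((S : Subgroup G) ⊓ Subgroup.normalizer (dStar (Q ⊓ K) : Set G))
    unfold FusionSystem.normalizerIn at *
    omega
  · obtain ⟨d, hdD, hdN, hdQ⟩ : ∃ d ∈ D, d ∈ Subgroup.normalizer (Q : Set G) ∧ d ∉ Q := by
      have hlt : Q < Q ⊔ D := lt_of_le_of_ne le_sup_left fun e => hDQ (e.symm ▸ le_sup_right)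
      have hgr := Cfsg.Lib.Fusion.normalizer_growth S.isPGroup'
        (sup_le hcS (hD1.trans inf_le_left)) hlt
      obtain ⟨y, hy, hyQ⟩ := SetLike.exists_of_lt hgr
      have hy1 : y ∈ ((Q ⊔ D : Subgroup G) : Set G) := hy.1
      rw [Subgroup.coe_mul_of_left_le_normalizer_right Q D (hcS.trans hSD)] at hy1
      obtain ⟨q, hq, d, hd, rfl⟩ := hy1
      refine ⟨d, hd, ?_, fun h => hyQ (mul_mem hq h)⟩
      simpa using mul_mem (inv_mem (Subgroup.le_normalizer hq)) hy.2
    have hq : Quad Q d := by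
      intro a ha
      refine hD3 _ ?_ d hdD
      rw [commutatorElement_def]
      exact mul_mem ((Subgroup.mem_normalizer_iff.1 (hSD (hcS ha)) d).1 hdD) (inv_mem hdD)
    have hdk := quad_mem_kerP hst (S.isPGroup'.to_le hcS) hdN hq
    obtain ⟨z, hz, n', hn'1, hn'2, rfl⟩ := kerP_frattini S hccard hn
    set T0 := FusionSystem.normalizerIn (S : Subgroup G) Q ⊓ kerP p Q
    have hQT : Q ⊔ T0 ≤ (S : Subgroup G) := sup_le hcS (inf_le_left.trans inf_le_left)
    have hbig : Nat.card P < Nat.card ↥(Q ⊔ T0) := by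
      rw [← hQcard]
      refine Cfsg.Lib.Fusion.card_lt_of_lt le_rfl (lt_of_le_of_ne le_sup_left fun e => hdQ ?_)
      rw [e]
      exact Subgroup.mem_sup_right ⟨⟨(hD1 hdD).1, hdN⟩, hdk⟩
    obtain ⟨h, hh, hhn⟩ := hIH _ hQT hbig n' fun x hx => hQT (by
      have h1 : n' ∈ Subgroup.normalizer ((Q ⊔ T0 : Subgroup G) : Set G) :=
        Subgroup.normalizer_inf_normalizer_le_normalizer_sup Q T0 ⟨hn'1, hn'2⟩
      exact (Subgroup.mem_normalizer_iff.1 h1 x).1 hx)
    refine ⟨h, hh, fun x hx => ?_⟩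
    rw [hhn x (Subgroup.mem_sup_left hx),
      show z * n' * x * (z * n')⁻¹ = z * (n' * x * n'⁻¹) * z⁻¹ by group,
      ← Subgroup.mem_centralizer_iff.1 hz _ ((Subgroup.mem_normalizer_iff.1 hn'1 x).1 hx), mul_inv_cancel_right]

end Cfsg.Lib.PStable.DStar
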