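import Mathlib
import Cfsg.Prelude.Def_FusionSystem
import Cfsg.Agent.Lib.PStable.DStar
import Cfsg.Agent.Lib.PStable.StableQuotient
import Cfsg.Agent.Lib.Fusion.GroupSystem
import Cfsg.Agent.Lib.Fusion.Normal

/-!
Group fusion systems that are `p`-stable: `D*(S)` is normal, and for `p > 3` the system is constrained.
-/

set_option autoImplicit false
set_option linter.style.haveILetI false
set_option linter.unusedSectionVars false

open scoped commutatorElement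

namespace Cfsg.Lib.PStable.DStarFusion

open Cfsg Cfsg.Lib.Fusion Cfsg.Lib.PStable.DStar
open Cfsg.FusionSystem hiding inv_mem

variable {G : Type*} [Group G] [Finite G] {p : ℕ} [Fact p.Prime]

theorem stable_of_system (S : Sylow p G)
    (hst : ∀ Q : Subgroup G, (groupFusionSystem (S : Subgroup G)).IsFullyNormalized Q →
      ∀ χ : MulAut ↥Q, χ ∈ (groupFusionSystem (S : Subgroup G)).autGroup Q →
        (∀ a : ↥Q, (χ a⁻¹) * a * (χ a⁻¹) * (χ (χ a)) = 1) →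
          χ ∈ ((pCore p ↥((groupFusionSystem (S : Subgroup G)).autGroup Q)).map
            ((groupFusionSystem (S : Subgroup G)).autGroup Q).subtype : Subgroup (MulAut ↥Q))) :
    IsNormalizerPStable p G := by
  intro P hP g hg hquad
  obtain ⟨U, hU⟩ := hP.exists_le_sylow
  obtain ⟨c0, hc0⟩ := MulAction.exists_smul_eq G U S
  have hPS : P.map (MulAut.conj c0).toMonoidHom ≤ (S : Subgroup G) := by
    rw [← hc0]; exact Subgroup.map_mono hU
  obtain ⟨c1, hQS, hcard⟩ := exists_conj_normalizer_sylow S hPS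
  set c := c1 * c0
  set e : G ≃* G := MulAut.conj c
  set Q := P.map e.toMonoidHom with hQ
  have hQ' : Q = (P.map (MulAut.conj c0).toMonoidHom).map (MulAut.conj c1).toMonoidHom := by
    rw [Subgroup.map_map, hQ]
    refine congrArg (fun f => P.map f) ?_
    ext x
    simp [e, c, mul_assoc]
  rw [← hQ'] at hQS hcard
  set F := groupFusionSystem (S : Subgroup G)
  have hfn : F.IsFullyNormalized Q := (fullyNormalized_group_iff S hQS).2 hcard
  -- the homomorphism to the automorphisms of `Q`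
  set N := Subgroup.normalizer (P : Set G)
  have hmem : ∀ n : N, ∀ x : Q, c * (n : G) * c⁻¹ * (x : G) * (c * (n : G) * c⁻¹)⁻¹ ∈ Q := by
    rintro n ⟨_, x, hx, rfl⟩
    exact ⟨(n : G) * x * (n : G)⁻¹, (Subgroup.mem_normalizer_iff.1 n.2 x).1 hx, by simp [e, mul_assoc]⟩
  have hNc : ∀ n : N, c * (n : G) * c⁻¹ ∈ Subgroup.normalizer (Q : Set G) := fun n =>
    Subgroup.mem_normalizer_fintype fun x hx => hmem n ⟨x, hx⟩
  let φ : N →* MulAut Q := (Subgroup.normalizerMonoidHom Q).comp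
    (((MulAut.conj c).toMonoidHom.comp N.subtype).codRestrict (Subgroup.normalizer (Q : Set G)) hNc)
  have hφ : ∀ (n : N) (x : Q), ((φ n x : Q) : G) = c * (n : G) * c⁻¹ * (x : G) * (c * (n : G) * c⁻¹)⁻¹ :=
    fun n x => rfl
  have hφA : ∀ n : N, φ n ∈ F.autGroup Q := by
    intro n
    rw [autGroup_group S hQS, mem_autInducedBy_iff]
    exact ⟨c * (n : G) * c⁻¹, Subgroup.mem_top _, fun x hx => by rw [← hφ n ⟨x, hx⟩, ← autFun_coe]⟩
  set ψ : N →* F.autGroup Q := φ.codRestrict _ hφA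
  have hψs : Function.Surjective ψ := by
    rintro ⟨α, hα⟩
    rw [autGroup_group S hQS, mem_autInducedBy_iff] at hα
    obtain ⟨d, -, hd⟩ := hα
    have hdP : c⁻¹ * d * c ∈ N := by
      refine Subgroup.mem_normalizer_fintype fun x hx => ?_
      obtain ⟨y, hy, hye⟩ : autFun α (c * x * c⁻¹) ∈ Q := autFun_mem α ⟨x, hx, rfl⟩
      rw [hd (c * x * c⁻¹) (show c * x * c⁻¹ ∈ Q from ⟨x, hx, rfl⟩)] at hye
      have : y = c⁻¹ * d * c * x * (c⁻¹ * d * c)⁻¹ := by
        have h2 : c * y * c⁻¹ = d * (c * x * c⁻¹) * d⁻¹ := hye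
        calc y = c⁻¹ * (c * y * c⁻¹) * c := by group
          _ = _ := by rw [h2]; group
      rwa [this] at hy
    refine ⟨⟨_, hdP⟩, Subtype.ext (MulEquiv.ext fun x => Subtype.ext ?_)⟩
    show ((φ ⟨_, hdP⟩ x : Q) : G) = (α x : Q)
    rw [hφ, ← autFun_coe α x, hd _ x.2]
    group
  set C := (Subgroup.centralizer (P : Set G)).subgroupOf N
  have hker : ψ.ker = C := by
    ext n
    constructor
    · intro hn
      refine Subgroup.mem_centralizer_iff.2 fun x hx => ?_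
      have h1 := hφ n ⟨c * x * c⁻¹, ⟨x, hx, rfl⟩⟩
      rw [show φ n = 1 from congrArg Subtype.val (MonoidHom.mem_ker.1 hn)] at h1
      have h2 : x = (n : G) * x * (n : G)⁻¹ := by
        have h3 : c * x * c⁻¹ = c * (n : G) * c⁻¹ * (c * x * c⁻¹) * (c * (n : G) * c⁻¹)⁻¹ := h1
        calc x = c⁻¹ * (c * x * c⁻¹) * c := by group
          _ = _ := by rw [h3]; group
      calc x * (n : G) = (n : G) * x * (n : G)⁻¹ * (n : G) := by rw [← h2]
        _ = (n : G) * x := by group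
    · intro hn
      refine MonoidHom.mem_ker.2 (Subtype.ext (MulEquiv.ext fun x => Subtype.ext ?_))
      obtain ⟨_, y, hy, rfl⟩ := x
      show ((φ n _ : Q) : G) = e y
      rw [hφ]
      show c * (n : G) * c⁻¹ * (c * y * c⁻¹) * (c * (n : G) * c⁻¹)⁻¹ = c * y * c⁻¹
      have hny : y * (n : G) = (n : G) * y := Subgroup.mem_centralizer_iff.1 hn y hy
      rw [show c * (n : G) * c⁻¹ * (c * y * c⁻¹) * (c * (n : G) * c⁻¹)⁻¹ = c * ((n : G) * y * (n : G)⁻¹) * c⁻¹ by group,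
        ← hny, mul_inv_cancel_right]
  let q : N ⧸ C ≃* F.autGroup Q := (QuotientGroup.quotientMulEquivOfEq hker.symm).trans
    (QuotientGroup.quotientKerEquivOfSurjective ψ hψs)
  have hquad' : ∀ a : Q, (φ ⟨g, hg⟩ a⁻¹) * a * (φ ⟨g, hg⟩ a⁻¹) * (φ ⟨g, hg⟩ (φ ⟨g, hg⟩ a)) = 1 := by
    intro a
    obtain ⟨_, v, hv, rfl⟩ := a
    apply Subtype.ext
    have h1 : ⁅⁅v⁻¹, g⁆, g⁆ = 1 := by
      rw [← Subgroup.mem_bot, ← hquad]
      exact Subgroup.commutator_mem_commutator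
        (Subgroup.commutator_mem_commutator (inv_mem hv) (Subgroup.mem_zpowers g)) (Subgroup.mem_zpowers g)
    have h2 : g * ⁅v⁻¹, g⁆ * g⁻¹ = ⁅v⁻¹, g⁆ := by
      rw [← commutatorElement_eq_one_iff_mul_comm.1 h1, mul_inv_cancel_right]
    simp only [Subgroup.coe_mul, hφ, InvMemClass.coe_inv, Subgroup.coe_one]
    show c * g * c⁻¹ * (c * v * c⁻¹)⁻¹ * (c * g * c⁻¹)⁻¹ * (c * v * c⁻¹) *
      (c * g * c⁻¹ * (c * v * c⁻¹)⁻¹ * (c * g * c⁻¹)⁻¹) *
      (c * g * c⁻¹ * (c * g * c⁻¹ * (c * v * c⁻¹) * (c * g * c⁻¹)⁻¹) * (c * g * c⁻¹)⁻¹) = 1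
    calc _ = c * (g * v⁻¹ * g⁻¹ * v * (g * v⁻¹ * g⁻¹) * (g * v * (v⁻¹ * g * v * g⁻¹) * g⁻¹)) * c⁻¹ := by group
      _ = c * (g * v⁻¹ * g⁻¹ * v * (g * v⁻¹ * g⁻¹) * (g * v * g⁻¹ * (g * ⁅v⁻¹, g⁆ * g⁻¹))) * c⁻¹ := by
          simp only [commutatorElement_def, inv_inv]; group
      _ = c * (g * v⁻¹ * g⁻¹ * v * (g * v⁻¹ * g⁻¹) * (g * v * g⁻¹ * ⁅v⁻¹, g⁆)) * c⁻¹ := by rw [h2]
      _ = 1 := by simp only [commutatorElement_def, inv_inv]; group
  obtain ⟨z, hz, hze⟩ := hst Q hfn (φ ⟨g, hg⟩) (hφA _) hquad'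
  have hz2 : z = q (QuotientGroup.mk (⟨g, hg⟩ : N)) := Subtype.ext hze
  have h := (show z ∈ pCore p (F.autGroup Q) from hz)
  rw [hz2] at h
  haveI := Cfsg.Lib.Transfer.pCore_normal (G := F.autGroup Q) p
  refine Cfsg.Lib.Solv.le_pCore (inferInstance : ((pCore p (F.autGroup Q)).comap q.toMonoidHom).Normal) ?_ h
  exact (Cfsg.Lib.Transfer.pCore_isPGroup p).comap_of_injective q.toMonoidHom q.injective

theorem centric_of_isNormal' {S : Sylow p G} {Q : Subgroup G}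
    (hn : (groupFusionSystem (S : Subgroup G)).IsNormal Q) (hC : centralizerIn (S : Subgroup G) Q ≤ Q) :
    (groupFusionSystem (S : Subgroup G)).IsCentric Q := by
  refine ⟨hn.1, fun R hR => ?_⟩
  obtain ⟨g, hg, rfl⟩ := isConj_iff.1 hR
  rw [hg.img_eq_of_card_le hn.1
    (fun x hx => StronglyClosed.mem (stronglyClosed_of_isNormal hn) hg hx hx) le_rfl]
  exact hC

theorem isNormal_of_control (S : Sylow p G) {E : Subgroup G} (hE : E ≤ (S : Subgroup G))
    (h : ∀ P : Subgroup G, P ≤ S → Good (S : Subgroup G) E P) :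
    (groupFusionSystem (S : Subgroup G)).IsNormal E := by
  refine isNormal_iff.2 ⟨hE, fun P f hf => ?_⟩
  obtain ⟨hP, c, hc⟩ := mor_group_iff.1 hf
  obtain ⟨m, hm, hme⟩ := h P hP c fun x hx => (hc x hx).2
  have hle : P ⊔ E ≤ (S : Subgroup G).comap (MulAut.conj m).toMonoidHom :=
    sup_le (fun x hx => show m * x * m⁻¹ ∈ (S : Subgroup G) from hme x hx ▸ (hc x hx).2)
      (fun x hx => hE ((Subgroup.mem_normalizer_iff.1 hm x).1 hx))
  refine ⟨fun x => m * x * m⁻¹, mor_group_iff.2 ⟨sup_le hP hE, m, fun x hx => ⟨rfl, hle hx⟩⟩,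
    fun x hx => (hme x hx).trans (hc x hx).1.symm, ?_⟩
  rw [img_conj]
  exact conj_map_of_normalizer hm

/-- Control in the quotient by a normal `p`-subgroup acted on as a `p`-group lifts. -/
theorem good_lift {H : Type*} [Group H] [Finite H] (Y : Subgroup H) [Y.Normal] (hY : IsPGroup p Y)
    (hact : ∀ v : H, ∃ k : ℕ, v ^ p ^ k ∈ Subgroup.centralizer (Y : Set H)) (S : Sylow p H)
    (E : Subgroup (H ⧸ Y)) (hSE : (S : Subgroup H) ≤ (Subgroup.normalizer (E : Set (H ⧸ Y))).comap (QuotientGroup.mk' Y))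
    (h : ∀ P : Subgroup (H ⧸ Y), P ≤ (S : Subgroup H).map (QuotientGroup.mk' Y) →
      Good ((S : Subgroup H).map (QuotientGroup.mk' Y)) E P) :
    ∀ P : Subgroup H, P ≤ S → Good (S : Subgroup H) (E.comap (QuotientGroup.mk' Y)) P := by
  intro P hP w hw
  set q := QuotientGroup.mk' Y with hq
  have hqs : Function.Surjective q := QuotientGroup.mk'_surjective Y
  have hYS : Y ≤ (S : Subgroup H) := (Cfsg.Lib.Solv.le_pCore inferInstance hY).trans (Cfsg.Lib.Transfer.pCore_le_sylow S)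
  have hcn : Subgroup.normalizer ((E.comap q : Subgroup H) : Set H) = (Subgroup.normalizer (E : Set (H ⧸ Y))).comap q :=
    (Subgroup.comap_normalizer_eq_of_surjective E hqs).symm
  have lift : ∀ (R : Subgroup H) (m : H), R ≤ (S : Subgroup H) → (∀ x ∈ R, m * x * m⁻¹ ∈ (S : Subgroup H)) →
      ∃ h0 ∈ Subgroup.normalizer ((E.comap q : Subgroup H) : Set H), ∀ x ∈ R, q (h0 * x * h0⁻¹) = q (m * x * m⁻¹) := by
    intro R m hR hm
    obtain ⟨b, hb, hbe⟩ := h (R.map q) (Subgroup.map_mono hR) (q m) (by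
      rintro _ ⟨x, hx, rfl⟩
      exact ⟨m * x * m⁻¹, hm x hx, by simp⟩)
    obtain ⟨h0, rfl⟩ := hqs b
    exact ⟨h0, hcn.ge hb, fun x hx => by simpa using hbe (q x) ⟨x, hx, rfl⟩⟩
  obtain ⟨h0, hh0, hh0e⟩ := lift P w hP hw
  set X := P ⊔ Y
  have hXS : X ≤ (S : Subgroup H) := sup_le hP hYS
  set Z := (Subgroup.centralizer (P.map q : Set (H ⧸ Y))).comap q
  have hz : h0⁻¹ * w ∈ Z := by
    refine Subgroup.mem_centralizer_iff.2 ?_
    rintro _ ⟨x, hx, rfl⟩
    have h1 := hh0e x hx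
    simp only [map_mul, map_inv] at h1 ⊢
    calc q x * ((q h0)⁻¹ * q w) = (q h0)⁻¹ * (q h0 * q x * (q h0)⁻¹) * q w := by group
      _ = _ := by rw [h1]; group
  have hZfix : ∀ z ∈ Z, ∀ x ∈ X, ∃ y ∈ Y, z * x * z⁻¹ = y * x := by
    intro z hz x hx
    refine ⟨z * x * z⁻¹ * x⁻¹, (QuotientGroup.eq_one_iff _).1 ?_, by group⟩
    show q _ = 1
    have hle : X ≤ (Subgroup.centralizer ({q z} : Set (H ⧸ Y))).comap q := by
      refine sup_le (fun a ha => Subgroup.mem_centralizer_singleton_iff.2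
        (Subgroup.mem_centralizer_iff.1 hz _ ⟨a, ha, rfl⟩)) (fun a ha => ?_)
      rw [Subgroup.mem_comap, show q a = 1 from (QuotientGroup.eq_one_iff a).2 ha]
      exact one_mem _
    have h1 : q x * q z = q z * q x := Subgroup.mem_centralizer_singleton_iff.1 (hle hx)
    simp only [map_mul, map_inv]
    rw [← h1]
    group
  have hZX : Z ≤ Subgroup.normalizer (X : Set H) := by
    intro z hz
    refine Subgroup.mem_normalizer_fintype fun x hx => ?_
    obtain ⟨y, hy, hye⟩ := hZfix z hz x hx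
    rw [hye]
    exact X.mul_mem (Subgroup.mem_sup_right hy) hx
  set C := (Subgroup.centralizer (X : Set H)).subgroupOf Z
  haveI : C.Normal := ⟨fun a ha b => Subgroup.mem_centralizer_iff.2 fun x hx => by
    have hx' := (Subgroup.mem_normalizer_iff''.1 (hZX b.2) x).1 hx
    have h1 : (b : H)⁻¹ * x * (b : H) * (a : H) = (a : H) * ((b : H)⁻¹ * x * (b : H)) :=
      Subgroup.mem_centralizer_iff.1 ha _ hx'
    show x * ((b : H) * (a : H) * (b : H)⁻¹) = (b : H) * (a : H) * (b : H)⁻¹ * x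
    calc x * ((b : H) * (a : H) * (b : H)⁻¹) = (b : H) * (((b : H)⁻¹ * x * (b : H)) * (a : H)) * (b : H)⁻¹ := by group
      _ = (b : H) * ((a : H) * ((b : H)⁻¹ * x * (b : H))) * (b : H)⁻¹ := by rw [h1]
      _ = _ := by group⟩
  obtain ⟨n, hn⟩ := IsPGroup.iff_card.1 hY
  have hZC : IsPGroup p (Z ⧸ C) := by
    intro a
    obtain ⟨⟨z, hz⟩, rfl⟩ := QuotientGroup.mk_surjective a
    obtain ⟨k, hk⟩ := hact z
    refine ⟨k + n, ?_⟩
    rw [← QuotientGroup.mk_pow]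
    refine (QuotientGroup.eq_one_iff _).2 (Subgroup.mem_centralizer_iff.2 fun x hx => ?_)
    show x * z ^ p ^ (k + n) = z ^ p ^ (k + n) * x
    obtain ⟨y, hy, hye⟩ := hZfix _ (Z.pow_mem hz (p ^ k)) x hx
    have hit : ∀ i : ℕ, (z ^ p ^ k) ^ i * x * ((z ^ p ^ k) ^ i)⁻¹ = y ^ i * x := by
      intro i
      induction i with
      | zero => simp
      | succ i ih =>
        have hc : Commute y (z ^ p ^ k) := Subgroup.mem_centralizer_iff.1 hk y hy
        calc _ = (z ^ p ^ k) * ((z ^ p ^ k) ^ i * x * ((z ^ p ^ k) ^ i)⁻¹) * (z ^ p ^ k)⁻¹ := by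
              rw [pow_succ']; group
          _ = (z ^ p ^ k) * (y ^ i * x) * (z ^ p ^ k)⁻¹ := by rw [ih]
          _ = ((z ^ p ^ k) * y ^ i) * x * (z ^ p ^ k)⁻¹ := by group
          _ = y ^ i * ((z ^ p ^ k) * x * (z ^ p ^ k)⁻¹) := by rw [← (hc.pow_left i).eq]; group
          _ = _ := by rw [hye, pow_succ, mul_assoc]
    have hy1 : y ^ p ^ n = 1 := by
      have := pow_card_eq_one' (x := (⟨y, hy⟩ : Y))
      rw [hn] at this
      exact congrArg Subtype.val this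
    have h2 := hit (p ^ n)
    rw [hy1, one_mul, ← pow_mul, ← pow_add] at h2
    exact (mul_inv_eq_iff_eq_mul.1 h2).symm
  obtain ⟨R⟩ := (inferInstance : Nonempty (Sylow p Z))
  set R' := (R : Subgroup Z).map Z.subtype
  set R2 := R' ⊔ X
  have hR2 : IsPGroup p R2 := (R.2.map _).to_sup_of_normal_right' (S.2.to_le hXS)
    ((Subgroup.map_subtype_le _).trans hZX)
  obtain ⟨U, hU⟩ := hR2.exists_le_sylow
  obtain ⟨m, hm⟩ := MulAction.exists_smul_eq H U S
  have hm2 : ∀ x ∈ R2, m * x * m⁻¹ ∈ (S : Subgroup H) := fun x hx => by rw [← hm]; exact ⟨x, hU hx, rfl⟩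
  obtain ⟨h1, hh1, hh1e⟩ := lift X m hXS fun x hx => hm2 x (Subgroup.mem_sup_right hx)
  have hz1 : h1⁻¹ * m ∈ Z := by
    refine Subgroup.mem_centralizer_iff.2 ?_
    rintro _ ⟨x, hx, rfl⟩
    have h2 := hh1e x (Subgroup.mem_sup_left hx)
    simp only [map_mul, map_inv] at h2 ⊢
    calc q x * ((q h1)⁻¹ * q m) = (q h1)⁻¹ * (q h1 * q x * (q h1)⁻¹) * q m := by group
      _ = _ := by rw [h2]; group
  set z1 : Z := ⟨_, hz1⟩
  obtain ⟨r, hrR, hrz⟩ : ∃ r : Z, r ∈ (R : Subgroup Z) ∧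
      QuotientGroup.mk' C r = QuotientGroup.mk' C (z1⁻¹ * ⟨_, hz⟩ * z1) := by
    have htop : ((R.mapSurjective (QuotientGroup.mk'_surjective C) : Sylow p (Z ⧸ C)) : Subgroup (Z ⧸ C)) = ⊤ :=
      ((R.mapSurjective (QuotientGroup.mk'_surjective C)).is_maximal' (hZC.to_subgroup ⊤) le_top).symm
    exact htop.ge (Subgroup.mem_top (QuotientGroup.mk' C (z1⁻¹ * ⟨_, hz⟩ * z1)))
  have hrz' : QuotientGroup.mk' C (z1 * r * z1⁻¹) = QuotientGroup.mk' C ⟨_, hz⟩ := by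
    rw [map_mul, map_mul, hrz, ← map_mul, ← map_mul]
    exact congrArg _ (by group)
  have hrN : h1⁻¹ * m * (r : H) * (h1⁻¹ * m)⁻¹ ∈ Subgroup.normalizer ((E.comap q : Subgroup H) : Set H) := by
    have h3 : m * (r : H) * m⁻¹ ∈ (S : Subgroup H) := hm2 _ (Subgroup.mem_sup_left ⟨r, hrR, rfl⟩)
    rw [show h1⁻¹ * m * (r : H) * (h1⁻¹ * m)⁻¹ = h1⁻¹ * (m * (r : H) * m⁻¹) * h1 by group]
    exact mul_mem (mul_mem (inv_mem hh1) (hcn.ge (hSE h3))) hh1
  refine ⟨h0 * (h1⁻¹ * m * (r : H) * (h1⁻¹ * m)⁻¹), mul_mem hh0 hrN, fun x hx => ?_⟩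
  have hc : (h1⁻¹ * m * (r : H) * (h1⁻¹ * m)⁻¹)⁻¹ * (h0⁻¹ * w) ∈ Subgroup.centralizer (X : Set H) :=
    (QuotientGroup.eq.1 hrz' : (z1 * r * z1⁻¹)⁻¹ * ⟨h0⁻¹ * w, hz⟩ ∈ C)
  set r := h1⁻¹ * m * (r : H) * (h1⁻¹ * m)⁻¹
  have h8 := Subgroup.mem_centralizer_iff.1 hc x (Subgroup.mem_sup_left hx)
  calc h0 * r * x * (h0 * r)⁻¹ = h0 * r * (x * (r⁻¹ * (h0⁻¹ * w))) * (r⁻¹ * (h0⁻¹ * w))⁻¹ * (h0 * r)⁻¹ := by group
    _ = h0 * r * ((r⁻¹ * (h0⁻¹ * w)) * x) * (r⁻¹ * (h0⁻¹ * w))⁻¹ * (h0 * r)⁻¹ := by rw [h8]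
    _ = w * x * w⁻¹ := by group

/-- The class of subgroups is read off from the kernel. -/
theorem mem_transfer {U A : Type*} [Group U] [Group A] (f g : U →* A) (hk : f.ker = g.ker)
    {D : Subgroup A} (hD : Mem f.range D) : Mem g.range ((D.comap f).map g) := by
  have hc : ∀ a b : U, Commute (f a) (f b) ↔ Commute (g a) (g b) := by
    intro a b
    have h1 : ∀ φ : U →* A, Commute (φ a) (φ b) ↔ ⁅a, b⁆ ∈ φ.ker := fun φ => by
      rw [MonoidHom.mem_ker, map_commutatorElement, commutatorElement_eq_one_iff_commute]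
    rw [h1, h1, hk]
  obtain ⟨h1, h2, h3, h4⟩ := hD
  refine ⟨Subgroup.map_le_range _ _, ?_, ?_, ?_⟩
  · rintro _ ⟨u, rfl⟩
    have key : ∀ v : U, ∀ x ∈ (D.comap f).map g, g v * x * (g v)⁻¹ ∈ (D.comap f).map g := by
      rintro v _ ⟨a, ha, rfl⟩
      refine ⟨v * a * v⁻¹, ?_, by simp⟩
      show f (v * a * v⁻¹) ∈ D
      rw [map_mul, map_mul, map_inv]
      exact (Subgroup.mem_normalizer_iff.1 (h2 ⟨v, rfl⟩) _).1 ha
    refine Subgroup.mem_normalizer_iff.2 fun x => ⟨key u x, fun hx => ?_⟩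
    have h := key u⁻¹ _ hx
    rwa [map_inv, show (g u)⁻¹ * (g u * x * (g u)⁻¹) * (g u)⁻¹⁻¹ = x by group] at h
  · rintro _ ⟨a, ha, rfl⟩ _ ⟨b, hb, rfl⟩
    exact (hc a b).1 (h3 _ ha _ hb)
  · rintro _ ⟨u, rfl⟩ hq _ ⟨a, ha, rfl⟩
    refine (hc a u).1 (h4 _ ⟨u, rfl⟩ (fun y hy => ?_) _ ha)
    obtain ⟨b, rfl⟩ := h1 hy
    have h5 := hq (g b) ⟨b, hy, rfl⟩
    rw [← map_commutatorElement] at h5 ⊢
    exact (hc _ _).2 h5

/-- For `p > 3` the system of a stable group is constrained. -/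
theorem constrained_of_stable (hp : 3 < p) (hst : IsNormalizerPStable p G) (S : Sylow p G) :
    (groupFusionSystem (S : Subgroup G)).IsConstrained p := by
  set F := groupFusionSystem (S : Subgroup G) with hF
  refine ⟨saturated_group S, ?_⟩
  set Q := F.core
  have hQn : F.IsNormal Q := isNormal_core F
  have hQS : Q ≤ (S : Subgroup G) := hQn.1
  have hext : ∀ P : Subgroup G, P ≤ S → ∀ g : G, (∀ x ∈ P, g * x * g⁻¹ ∈ (S : Subgroup G)) →
      ∃ g1 ∈ Subgroup.normalizer (Q : Set G), ∀ x ∈ P, g1 * x * g1⁻¹ = g * x * g⁻¹ := by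
    intro P hP g hg
    obtain ⟨k, hk, hk1, hk2⟩ := (isNormal_iff.1 hQn).2 P (fun x => g * x * g⁻¹)
      (mor_group_iff.2 ⟨hP, g, fun x hx => ⟨rfl, hg x hx⟩⟩)
    obtain ⟨-, g1, hg1⟩ := mor_group_iff.1 hk
    refine ⟨g1, ?_, fun x hx => ((hg1 x (Subgroup.mem_sup_left hx)).1).symm.trans (hk1 x hx)⟩
    refine Subgroup.mem_normalizer_fintype fun x hx => ?_
    rw [← (hg1 x (Subgroup.mem_sup_right hx)).1]
    exact hk2.le (mem_img_of_mem hx)
  by_cases hcQ : centralizerIn (S : Subgroup G) Q ≤ Q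
  · exact ⟨Q, hQn, centric_of_isNormal' hQn hcQ⟩
  exfalso
  obtain ⟨x0, hx0, hx0Q⟩ := SetLike.not_le_iff_exists.1 hcQ
  have hSQ : (S : Subgroup G) ≤ Subgroup.normalizer (Q : Set G) := fun s hs =>
    Subgroup.mem_normalizer_fintype fun x hx => StronglyClosed.conj_mem (stronglyClosed_of_isNormal hQn) hs hx
  set C := Subgroup.centralizer (Q : Set G)
  set N := Subgroup.normalizer (Q : Set G)
  have hNC : N ≤ Subgroup.normalizer (C : Set G) := by
    intro n hn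
    refine Subgroup.mem_normalizer_fintype fun c hc => Subgroup.mem_centralizer_iff.2 fun x hx => ?_
    have h1 : n⁻¹ * x * n * c = c * (n⁻¹ * x * n) :=
      Subgroup.mem_centralizer_iff.1 hc _ ((Subgroup.mem_normalizer_iff''.1 hn x).1 hx)
    calc x * (n * c * n⁻¹) = n * (n⁻¹ * x * n * c) * n⁻¹ := by group
      _ = n * (c * (n⁻¹ * x * n)) * n⁻¹ := by rw [h1]
      _ = _ := by group
  set H := C ⊔ (S : Subgroup G)
  have hCN : C ≤ N := centralizer_le_normalizer' Q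
  have hHN : H ≤ N := sup_le hCN hSQ
  have hQH : Q ≤ H := hQS.trans le_sup_right
  set Y := Q.subgroupOf H
  haveI : Y.Normal := (Subgroup.normal_subgroupOf_iff_le_normalizer hQH).2 hHN
  have hY : IsPGroup p Y := (S.2.to_le hQS).of_equiv (Subgroup.subgroupOfEquivOfLe hQH).symm
  have hact : ∀ v : H, ∃ k : ℕ, v ^ p ^ k ∈ Subgroup.centralizer (Y : Set H) := by
    rintro ⟨v, hv⟩
    have hv' : v ∈ (((S : Subgroup G) ⊔ C : Subgroup G) : Set G) := by rw [sup_comm]; exact hv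
    rw [Subgroup.coe_mul_of_left_le_normalizer_right _ C (hSQ.trans hNC)] at hv'
    obtain ⟨s, hs, c, hc, rfl⟩ := hv'
    obtain ⟨k, hk⟩ := S.2 ⟨s, hs⟩
    have hit : ∀ i : ℕ, (s ^ i)⁻¹ * (s * c) ^ i ∈ C := by
      intro i
      induction i with
      | zero => simp
      | succ i ih =>
        have h1 : s⁻¹ * ((s ^ i)⁻¹ * (s * c) ^ i) * s ∈ C :=
          (Subgroup.mem_normalizer_iff''.1 (hNC (hSQ hs)) _).1 ih
        rw [pow_succ, pow_succ, show (s ^ i * s)⁻¹ * ((s * c) ^ i * (s * c)) =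
          s⁻¹ * ((s ^ i)⁻¹ * (s * c) ^ i) * s * c by group]
        exact mul_mem h1 hc
    refine ⟨k, Subgroup.mem_centralizer_iff.2 fun y hy => Subtype.ext ?_⟩
    have h2 := hit (p ^ k)
    rw [show s ^ p ^ k = 1 from congrArg Subtype.val hk, inv_one, one_mul] at h2
    show (y : G) * ((s * c) ^ p ^ k) = (s * c) ^ p ^ k * (y : G)
    exact Subgroup.mem_centralizer_iff.1 h2 _ hy
  have hstH : IsNormalizerPStable p (H ⧸ Y) :=
    normalizerPStable_quotient_pAct hp (normalizerPStable_subgroup hst H) Y hY hact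
  set q := QuotientGroup.mk' Y with hq
  set SH := S.subtype (show (S : Subgroup G) ≤ H from le_sup_right)
  have hYSH : Y ≤ (SH : Subgroup H) := fun y hy => hQS hy
  set K1 := C ⊔ Q
  set KH := K1.subgroupOf H
  have hNK : N ≤ Subgroup.normalizer (K1 : Set G) :=
    (le_inf hNC le_rfl).trans (Subgroup.normalizer_inf_normalizer_le_normalizer_sup C Q)
  have hK1H : K1 ≤ H := sup_le le_sup_left hQH
  haveI : KH.Normal := (Subgroup.normal_subgroupOf_iff_le_normalizer hK1H).2 (hHN.trans hNK)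
  have hYK : Y ≤ KH := fun y hy => Subgroup.mem_sup_right hy
  haveI : (KH.map q).Normal := Subgroup.Normal.map inferInstance q (QuotientGroup.mk'_surjective Y)
  set SQ := SH.mapSurjective (QuotientGroup.mk'_surjective Y)
  set D := dStar ((SQ : Subgroup (H ⧸ Y)) ⊓ KH.map q) with hD
  have hT : (SQ : Subgroup (H ⧸ Y)) ⊓ KH.map q = ((SH : Subgroup H) ⊓ KH).map q := by
    refine le_antisymm ?_ (Subgroup.map_inf_le _ _ q)
    rintro _ ⟨⟨a, ha, rfl⟩, b, hb, hbe⟩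
    have h1 : b⁻¹ * a ∈ Y := QuotientGroup.eq.1 hbe
    exact ⟨a, ⟨ha, by simpa using mul_mem hb (hYK h1)⟩, rfl⟩
  set E0 := D.comap q with hE0
  have hE0le : E0 ≤ (SH : Subgroup H) ⊓ KH := by
    refine le_trans (Subgroup.comap_mono ((dStar_le _).trans hT.le)) ?_
    rw [Subgroup.comap_map_eq, QuotientGroup.ker_mk']
    exact sup_le le_rfl (le_inf hYSH hYK)
  set E := E0.map H.subtype with hE
  have hES : E ≤ (S : Subgroup G) := by rintro _ ⟨a, ha, rfl⟩; exact (hE0le ha).1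
  have hnorm : ∀ h : H, h ∈ Subgroup.normalizer (E0 : Set H) → (h : G) ∈ Subgroup.normalizer (E : Set G) := by
    intro h hh
    refine Subgroup.mem_normalizer_fintype ?_
    rintro _ ⟨a, ha, rfl⟩
    exact ⟨h * a * h⁻¹, (Subgroup.mem_normalizer_iff.1 hh a).1 ha, by simp⟩
  have hgood := DStarFusion.good_lift Y hY hact SH D ?_ (DStar.control hstH (KH.map q) SQ)
  swap
  · intro s hs
    refine normalizer_le_dStar _ (normalizer_le_inf_normal _ _ ?_)
    exact Subgroup.le_normalizer ⟨s, hs, rfl⟩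
  -- invariance under `N(U)`
  set U := (S : Subgroup G) ⊓ K1
  have hinv : ∀ n ∈ N, n ∈ Subgroup.normalizer (U : Set G) → n ∈ Subgroup.normalizer (E : Set G) := by
    intro n hn hnU
    refine Subgroup.mem_normalizer_fintype ?_
    rintro _ ⟨a, ha, rfl⟩
    have hUH : U ≤ H := inf_le_left.trans le_sup_right
    let f : U →* H ⧸ Y := q.comp (Subgroup.inclusion hUH)
    let g : U →* H ⧸ Y := f.comp ((Subgroup.normalizerMonoidHom U ⟨n, hnU⟩).toMonoidHom)
    have hfr : f.range = (SQ : Subgroup (H ⧸ Y)) ⊓ KH.map q := by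
      rw [hT]
      ext z
      constructor
      · rintro ⟨u, rfl⟩; exact ⟨_, ⟨u.2.1, u.2.2⟩, rfl⟩
      · rintro ⟨b, hb, rfl⟩; exact ⟨⟨(b : G), hb⟩, rfl⟩
    have hgr : g.range = f.range := by
      show (f.comp _).range = _
      rw [MonoidHom.range_comp, MonoidHom.range_eq_top.2 (MulEquiv.surjective _), ← MonoidHom.range_eq_map]
    have hk : f.ker = g.ker := by
      ext u
      have h1 : f u = 1 ↔ (u : G) ∈ Q := QuotientGroup.eq_one_iff _
      have h2 : g u = 1 ↔ n * (u : G) * n⁻¹ ∈ Q := QuotientGroup.eq_one_iff _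
      rw [MonoidHom.mem_ker, MonoidHom.mem_ker, h1, h2]
      exact Subgroup.mem_normalizer_iff.1 hn _
    have h3 := le_dStar (mem_transfer f g hk (D := dStar ((SQ : Subgroup (H ⧸ Y)) ⊓ KH.map q))
      (by rw [hfr]; exact mem_dStar _))
    rw [hgr, hfr] at h3
    have hfa : (⟨(a : G), hE0le ha⟩ : U) ∈ (dStar ((SQ : Subgroup (H ⧸ Y)) ⊓ KH.map q)).comap f := ha
    have h4 : g ⟨(a : G), hE0le ha⟩ ∈ D := h3 ⟨_, hfa, rfl⟩
    exact ⟨_, h4, rfl⟩
  -- `E` is normal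
  have hEn : F.IsNormal E := by
    refine isNormal_of_control S hES fun P hP g hg => ?_
    obtain ⟨g1, hg1, hg1e⟩ := hext P hP g hg
    set SN := S.subtype hSQ
    set KN := K1.subgroupOf N
    have hK1N : K1 ≤ N := hK1H.trans hHN
    haveI : KN.Normal := (Subgroup.normal_subgroupOf_iff_le_normalizer hK1N).2 hNK
    obtain ⟨R, hR⟩ := Cfsg.Lib.Solv.sylow_inf_subnormal (inferInstance : KN.Normal).isSubnormal SN
    have htop : Subgroup.normalizer (((R : Subgroup ↥KN).map KN.subtype : Subgroup ↥N) : Set ↥N) ⊔ KN = ⊤ :=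
      R.normalizer_sup_eq_top
    rw [hR, Subgroup.subgroupOf_map_subtype] at htop
    obtain ⟨n, hn, w, hw, hnw⟩ := Subgroup.mem_sup_of_normal_right.1 (htop.ge (Subgroup.mem_top ⟨g1, hg1⟩))
    have hnU : (n : G) ∈ Subgroup.normalizer (U : Set G) := by
      refine Subgroup.mem_normalizer_fintype fun u hu => ?_
      exact (Subgroup.mem_normalizer_iff.1 hn ⟨u, hSQ hu.1⟩).1 hu
    have hnw' : (n : G) * (w : G) = g1 := congrArg Subtype.val hnw
    -- move into `S`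
    set S1 := P.map (MulAut.conj (w : G)).toMonoidHom ⊔ U
    have hS1S : S1 ≤ (S : Subgroup G).comap (MulAut.conj (n : G)).toMonoidHom := by
      refine sup_le ?_ fun u hu => show (n : G) * u * (n : G)⁻¹ ∈ (S : Subgroup G) from
        ((Subgroup.mem_normalizer_iff.1 hnU u).1 hu).1
      rintro _ ⟨x, hx, rfl⟩
      show (n : G) * ((w : G) * x * (w : G)⁻¹) * (n : G)⁻¹ ∈ (S : Subgroup G)
      rw [show (n : G) * ((w : G) * x * (w : G)⁻¹) * (n : G)⁻¹ = ((n : G) * (w : G)) * x * ((n : G) * (w : G))⁻¹ by group,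
        hnw', hg1e x hx]
      exact hg x hx
    have hwH : (w : G) ∈ H := hK1H hw
    have hS1H : S1 ≤ H ⊓ Subgroup.normalizer (U : Set G) := by
      refine sup_le ?_ (le_inf (inf_le_left.trans le_sup_right) Subgroup.le_normalizer)
      rintro _ ⟨x, hx, rfl⟩
      refine ⟨H.mul_mem (H.mul_mem hwH (Subgroup.mem_sup_right (hP hx))) (H.inv_mem hwH), ?_⟩
      have h5 : (n : G) * ((w : G) * x * (w : G)⁻¹) * (n : G)⁻¹ ∈ (S : Subgroup G) :=
        hS1S (Subgroup.mem_sup_left ⟨x, hx, rfl⟩)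
      have h6 : (n : G) * ((w : G) * x * (w : G)⁻¹) * (n : G)⁻¹ ∈ Subgroup.normalizer (U : Set G) := by
        refine Subgroup.mem_normalizer_fintype fun u hu => ?_
        exact ⟨(S : Subgroup G).mul_mem ((S : Subgroup G).mul_mem h5 hu.1) ((S : Subgroup G).inv_mem h5), (Subgroup.mem_normalizer_iff.1 (hNK (hSQ h5)) u).1 hu.2⟩
      have h7 := mul_mem (mul_mem (inv_mem hnU) h6) hnU
      rwa [show (n : G)⁻¹ * ((n : G) * ((w : G) * x * (w : G)⁻¹) * (n : G)⁻¹) * (n : G) = (w : G) * x * (w : G)⁻¹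
        by group] at h7
    set L := H ⊓ Subgroup.normalizer (U : Set G)
    have hSL : (S : Subgroup G) ≤ L := le_inf le_sup_right fun s hs => Subgroup.mem_normalizer_fintype fun u hu =>
      ⟨(S : Subgroup G).mul_mem ((S : Subgroup G).mul_mem hs hu.1) ((S : Subgroup G).inv_mem hs), (Subgroup.mem_normalizer_iff.1 (hNK (hSQ hs)) u).1 hu.2⟩
    have hS1p : IsPGroup p (S1.subgroupOf L) :=
      ((S.2.comap_of_injective _ (MulAut.conj (n : G)).injective).to_le hS1S).of_equiv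
        (Subgroup.subgroupOfEquivOfLe hS1H).symm
    obtain ⟨R1, hR1⟩ := hS1p.exists_le_sylow
    obtain ⟨c, hc⟩ := MulAction.exists_smul_eq ↥L R1 (S.subtype hSL)
    have hcS : ∀ x ∈ P, (c : G) * ((w : G) * x * (w : G)⁻¹) * (c : G)⁻¹ ∈ (S : Subgroup G) := by
      intro x hx
      have h8 : (⟨_, hS1H (Subgroup.mem_sup_left ⟨x, hx, rfl⟩)⟩ : L) ∈ (R1 : Subgroup L) :=
        hR1 (show _ ∈ S1.subgroupOf L from Subgroup.mem_sup_left ⟨x, hx, rfl⟩)
      have h9 : c * ⟨_, hS1H (Subgroup.mem_sup_left ⟨x, hx, rfl⟩)⟩ * c⁻¹ ∈ ((S.subtype hSL : Sylow p L) : Subgroup L) := by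
        rw [← hc]; exact ⟨_, h8, rfl⟩
      exact h9
    have hcH : (c : G) * (w : G) ∈ H := mul_mem c.2.1 hwH
    obtain ⟨h, hh, hhe⟩ := hgood (P.subgroupOf H) (fun x hx => hP hx) ⟨_, hcH⟩ (by
      intro x hx
      have := hcS x hx
      show (c : G) * (w : G) * (x : G) * ((c : G) * (w : G))⁻¹ ∈ (S : Subgroup G)
      rwa [show (c : G) * (w : G) * (x : G) * ((c : G) * (w : G))⁻¹ =
        (c : G) * ((w : G) * (x : G) * (w : G)⁻¹) * (c : G)⁻¹ by group])
    refine ⟨(n : G) * (c : G)⁻¹ * (h : G), mul_mem (hinv _ (mul_mem n.2 (inv_mem (hHN c.2.1)))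
      (mul_mem hnU (inv_mem c.2.2))) (hnorm h hh), fun x hx => ?_⟩
    have h10 : (h : G) * x * (h : G)⁻¹ = (c : G) * (w : G) * x * ((c : G) * (w : G))⁻¹ :=
      congrArg Subtype.val (hhe ⟨x, le_sup_right (a := C) (hP hx)⟩ hx)
    rw [← hg1e x hx, ← hnw']
    calc (n : G) * (c : G)⁻¹ * (h : G) * x * ((n : G) * (c : G)⁻¹ * (h : G))⁻¹
        = (n : G) * (c : G)⁻¹ * ((h : G) * x * (h : G)⁻¹) * ((n : G) * (c : G)⁻¹)⁻¹ := by group
      _ = _ := by rw [h10]; group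
  have hEQ : E ≤ Q := le_sSup hEn
  have hTne : (SQ : Subgroup (H ⧸ Y)) ⊓ KH.map q ≠ ⊥ := by
    intro hb
    have h1 : q ⟨x0, le_sup_right (a := C) hx0.1⟩ ∈ (SQ : Subgroup (H ⧸ Y)) ⊓ KH.map q :=
      ⟨⟨_, hx0.1, rfl⟩, ⟨_, Subgroup.mem_sup_left hx0.2, rfl⟩⟩
    rw [hb, Subgroup.mem_bot] at h1
    exact hx0Q ((QuotientGroup.eq_one_iff (⟨x0, le_sup_right (a := C) hx0.1⟩ : H)).1 h1)
  refine dStar_ne_bot (SQ.2.to_le inf_le_left) hTne ?_
  rw [eq_bot_iff]
  intro z hz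
  obtain ⟨a, rfl⟩ := QuotientGroup.mk'_surjective Y z
  exact (QuotientGroup.eq_one_iff _).2 (hEQ ⟨a, hz, rfl⟩)

end Cfsg.Lib.PStable.DStarFusion
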